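import Cfsg.Agent.H803.OmPlane

/-!
# Isometries with square `-1` (helper803)

`Q` a nondegenerate quadratic form over a finite field of odd order, `A` an isometry with `A² = -1`.

* `Skew.exists_basis` : there are vectors `v i` such that the `v i`, `A (v i)` are an orthonormal basis.
-/

set_option autoImplicit false
set_option linter.unusedSectionVars false

namespace Cfsg.Agent.H803.UnfO

open QuadraticMap Module

variable {F V : Type*} [Field F] [AddCommGroup V] [Module F V] {Q : QuadraticForm F V} {A : V →ₗ[F] V}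

theorem exists_sq_add_sq [Finite F] (h2 : (2 : F) ≠ 0) (c : F) : ∃ a b : F, a * a + b * b = c := by
  have : Fintype F := Fintype.ofFinite F
  have hodd : Fintype.card F % 2 = 1 := by
    apply FiniteField.odd_card_of_char_ne_two
    intro h
    exact h2 (by exact_mod_cast (ringChar.spec F 2).2 (by rw [h]))
  obtain ⟨a, b, h⟩ := FiniteField.exists_root_sum_quadratic (R := F) (f := Polynomial.X ^ 2 - Polynomial.C c)
    (g := Polynomial.X ^ 2)
    (Polynomial.degree_X_pow_sub_C (by norm_num) _) (Polynomial.degree_X_pow 2) hodd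
  refine ⟨a, b, ?_⟩
  simp only [Polynomial.eval_sub, Polynomial.eval_pow, Polynomial.eval_X, Polynomial.eval_C] at h
  linear_combination h

/-- An isometry with square `-1`. -/
structure Skew (Q : QuadraticForm F V) (A : V →ₗ[F] V) : Prop where
  iso : ∀ v, Q (A v) = Q v
  sq : ∀ v, A (A v) = -v

theorem Skew.polar (h : Skew Q A) (u v : V) : QuadraticMap.polar Q (A u) (A v) = QuadraticMap.polar Q u v := by
  rw [QuadraticMap.polar, QuadraticMap.polar, ← map_add, h.iso, h.iso, h.iso]

theorem Skew.polar_left (h : Skew Q A) (u v : V) :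
    QuadraticMap.polar Q (A u) v = - QuadraticMap.polar Q u (A v) := by
  have h1 := h.polar u (A v)
  rw [h.sq, polar_neg_right] at h1
  rw [← h1, neg_neg]

theorem Skew.polar_self (h2 : (2 : F) ≠ 0) (h : Skew Q A) (v : V) : QuadraticMap.polar Q v (A v) = 0 := by
  have h1 := h.polar_left v v
  rw [polar_comm] at h1
  have h3 : (2 : F) * QuadraticMap.polar Q v (A v) = 0 := by linear_combination h1
  exact (mul_eq_zero.1 h3).resolve_left h2

/-- Orthonormal families with the images under `A`. -/
structure AON (Q : QuadraticForm F V) (A : V →ₗ[F] V) {κ : Type*} (v : κ → V) : Prop where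
  one : ∀ i, Q (v i) = 1
  orth : ∀ i j, i ≠ j → QuadraticMap.polar Q (v i) (v j) = 0
  orthA : ∀ i j, i ≠ j → QuadraticMap.polar Q (v i) (A (v j)) = 0

/-- The vectors `v i` and `A (v i)`. -/
def bb (A : V →ₗ[F] V) {κ : Type*} (v : κ → V) (p : κ × Fin 2) : V := if p.2 = 0 then v p.1 else A (v p.1)

theorem bb_zero {κ : Type*} (v : κ → V) (i : κ) : bb A v (i, 0) = v i := rfl
theorem bb_one {κ : Type*} (v : κ → V) (i : κ) : bb A v (i, 1) = A (v i) := rfl

theorem AON.polar_bb (h2 : (2 : F) ≠ 0) (hA : Skew Q A) {κ : Type*} [DecidableEq κ] {v : κ → V} (h : AON Q A v)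
    (p q : κ × Fin 2) : polarBilin Q (bb A v p) (bb A v q) = if p = q then 2 else 0 := by
  have h22 : ∀ i, QuadraticMap.polar Q (v i) (v i) = 2 := by
    intro i
    rw [QuadraticMap.polar_self, h.one]
    simp
  rw [polarBilin_apply_apply]
  rcases p with ⟨i, s⟩
  rcases q with ⟨j, t⟩
  by_cases hij : i = j
  · subst hij
    fin_cases s <;> fin_cases t
    · simp only [Fin.zero_eta, bb_zero, if_true, h22]
    · simp only [Fin.zero_eta, Fin.mk_one, bb_zero, bb_one, hA.polar_self h2]
      simp
    · simp only [Fin.zero_eta, Fin.mk_one, bb_zero, bb_one, hA.polar_left, hA.polar_self h2]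
      simp
    · simp only [Fin.mk_one, bb_one, hA.polar, h22, if_true]
  · rw [if_neg (fun e => hij (congrArg Prod.fst e))]
    fin_cases s <;> fin_cases t
    · simp only [Fin.zero_eta, bb_zero, h.orth i j hij]
    · simp only [Fin.zero_eta, Fin.mk_one, bb_zero, bb_one, h.orthA i j hij]
    · simp only [Fin.zero_eta, Fin.mk_one, bb_zero, bb_one, hA.polar_left, h.orthA i j hij, neg_zero]
    · simp only [Fin.mk_one, bb_one, hA.polar, h.orth i j hij]

/-- The projection to the orthogonal complement. -/
def proj (Q : QuadraticForm F V) (A : V →ₗ[F] V) {κ : Type*} [Fintype κ] (v : κ → V) (u : V) : V :=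
  u - ∑ p, ((2 : F)⁻¹ * polarBilin Q u (bb A v p)) • bb A v p

theorem AON.polar_proj (h2 : (2 : F) ≠ 0) (hA : Skew Q A) {κ : Type*} [Fintype κ] [DecidableEq κ] {v : κ → V}
    (h : AON Q A v) (u : V) (q : κ × Fin 2) : polarBilin Q (proj Q A v u) (bb A v q) = 0 := by
  rw [proj, map_sub, LinearMap.sub_apply, map_sum, LinearMap.sum_apply]
  simp only [map_smul, LinearMap.smul_apply, h.polar_bb h2 hA, smul_eq_mul, mul_ite, mul_zero]
  rw [Finset.sum_ite_eq' Finset.univ q, if_pos (Finset.mem_univ q)]
  field_simp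
  ring

theorem AON.exists_ns [FiniteDimensional F V] (h2 : (2 : F) ≠ 0) (hQ : (polarBilin Q).Nondegenerate)
    (hA : Skew Q A) {κ : Type*} [Fintype κ] [DecidableEq κ] {v : κ → V}
    (h : AON Q A v) (hc : Fintype.card κ * 2 < finrank F V) :
    ∃ w, Q w ≠ 0 ∧ ∀ q, polarBilin Q w (bb A v q) = 0 := by
  obtain ⟨u, hu⟩ : ∃ u, u ∉ Submodule.span F (Set.range (bb A v)) := by
    by_contra! hall
    have h1 : Submodule.span F (Set.range (bb A v)) = ⊤ := by
      rw [eq_top_iff]
      exact fun x _ => hall x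
    have h3 := finrank_range_le_card (R := F) (bb A v)
    rw [Set.finrank, h1, finrank_top, Fintype.card_prod, Fintype.card_fin] at h3
    omega
  have hpu : proj Q A v u ≠ 0 := by
    intro h0
    apply hu
    rw [proj, sub_eq_zero] at h0
    rw [h0]
    refine Submodule.sum_mem _ fun p _ => Submodule.smul_mem _ _ (Submodule.subset_span ⟨p, rfl⟩)
  obtain ⟨t, ht⟩ : ∃ t, polarBilin Q (proj Q A v u) t ≠ 0 := by
    by_contra! hall
    exact hpu (hQ.1 _ hall)
  have hpt : polarBilin Q (proj Q A v u) (proj Q A v t) ≠ 0 := by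
    have e : polarBilin Q (proj Q A v u) (proj Q A v t) = polarBilin Q (proj Q A v u) t := by
      conv_lhs => rw [proj.eq_1 Q A v t]
      rw [map_sub, map_sum]
      simp only [map_smul, h.polar_proj h2 hA, smul_zero, Finset.sum_const_zero, sub_zero]
    rw [e]
    exact ht
  by_contra! hall
  have k1 := hall (proj Q A v u)
  have k2 := hall (proj Q A v t)
  have k3 := hall (proj Q A v u + proj Q A v t)
  apply hpt
  rw [polarBilin_apply_apply, QuadraticMap.polar]
  by_cases a1 : Q (proj Q A v u) = 0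
  · by_cases a2 : Q (proj Q A v t) = 0
    · by_cases a3 : Q (proj Q A v u + proj Q A v t) = 0
      · rw [a1, a2, a3]; ring
      · obtain ⟨q, hq⟩ := k3 a3
        exact absurd (by rw [map_add, LinearMap.add_apply, h.polar_proj h2 hA, h.polar_proj h2 hA, add_zero]) hq
    · obtain ⟨q, hq⟩ := k2 a2
      exact absurd (h.polar_proj h2 hA t q) hq
  · obtain ⟨q, hq⟩ := k1 a1
    exact absurd (h.polar_proj h2 hA u q) hq

theorem AON.step [Finite F] [FiniteDimensional F V] (h2 : (2 : F) ≠ 0) (hQ : (polarBilin Q).Nondegenerate)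
    (hA : Skew Q A) {k : ℕ} {v : Fin k → V}
    (h : AON Q A v) (hc : k * 2 < finrank F V) : ∃ w, AON Q A (Fin.cons w v : Fin (k + 1) → V) := by
  obtain ⟨w, hw, hwo⟩ := h.exists_ns h2 hQ hA (by rw [Fintype.card_fin]; exact hc)
  obtain ⟨a, b, hab⟩ := exists_sq_add_sq h2 ((Q w)⁻¹)
  have h1 : ∀ j, QuadraticMap.polar Q w (v j) = 0 := fun j => hwo (j, 0)
  have h3 : ∀ j, QuadraticMap.polar Q w (A (v j)) = 0 := fun j => hwo (j, 1)
  have h4 : ∀ j, QuadraticMap.polar Q (A w) (v j) = 0 := fun j => by rw [hA.polar_left, h3, neg_zero]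
  have h5 : ∀ j, QuadraticMap.polar Q (A w) (A (v j)) = 0 := fun j => by rw [hA.polar, h1]
  have h6 : ∀ j, QuadraticMap.polar Q (a • w + b • A w) (v j) = 0 := fun j => by
    rw [polar_add_left, polar_smul_left, polar_smul_left, h1, h4, smul_zero, smul_zero, add_zero]
  have h7 : ∀ j, QuadraticMap.polar Q (a • w + b • A w) (A (v j)) = 0 := fun j => by
    rw [polar_add_left, polar_smul_left, polar_smul_left, h3, h5, smul_zero, smul_zero, add_zero]
  refine ⟨a • w + b • A w, ?_, ?_, ?_⟩
  · intro i
    refine Fin.cases ?_ (fun i => ?_) i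
    · rw [Fin.cons_zero]
      have e : Q (a • w + b • A w) = Q (a • w) + Q (b • A w) + QuadraticMap.polar Q (a • w) (b • A w) := by
        rw [QuadraticMap.polar]; ring
      rw [e, polar_smul_left, polar_smul_right, hA.polar_self h2, QuadraticMap.map_smul, QuadraticMap.map_smul,
        hA.iso, smul_zero, smul_zero, add_zero, smul_eq_mul, smul_eq_mul, ← add_mul, hab, inv_mul_cancel₀ hw]
    · rw [Fin.cons_succ]
      exact h.one i
  · intro i j
    refine Fin.cases ?_ (fun i => ?_) i
    · refine Fin.cases ?_ (fun j => ?_) j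
      · intro hne
        exact absurd rfl hne
      · intro _
        rw [Fin.cons_zero, Fin.cons_succ, h6]
    · refine Fin.cases ?_ (fun j => ?_) j
      · intro _
        rw [Fin.cons_zero, Fin.cons_succ, polar_comm, h6]
      · intro hne
        rw [Fin.cons_succ, Fin.cons_succ]
        exact h.orth i j (fun e => hne (by rw [e]))
  · intro i j
    refine Fin.cases ?_ (fun i => ?_) i
    · refine Fin.cases ?_ (fun j => ?_) j
      · intro hne
        exact absurd rfl hne
      · intro _
        rw [Fin.cons_zero, Fin.cons_succ, h7]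
    · refine Fin.cases ?_ (fun j => ?_) j
      · intro _
        rw [Fin.cons_zero, Fin.cons_succ, polar_comm, hA.polar_left, h7, neg_zero]
      · intro hne
        rw [Fin.cons_succ, Fin.cons_succ]
        exact h.orthA i j (fun e => hne (by rw [e]))

theorem Skew.exists_family [Finite F] [FiniteDimensional F V] (h2 : (2 : F) ≠ 0) (hQ : (polarBilin Q).Nondegenerate)
    (hA : Skew Q A) : ∀ k : ℕ, k * 2 ≤ finrank F V + 1 → ∃ v : Fin k → V, AON Q A v
  | 0, _ => ⟨Fin.elim0, fun i => i.elim0, fun i => i.elim0, fun i => i.elim0⟩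
  | k + 1, hk => by
    obtain ⟨v, hv⟩ := Skew.exists_family h2 hQ hA k (by omega)
    obtain ⟨w, hw⟩ := hv.step h2 hQ hA (by omega)
    exact ⟨_, hw⟩

/-- **Normal form.** -/
theorem Skew.exists_basis [Finite F] [FiniteDimensional F V] (h2 : (2 : F) ≠ 0)
    (hQ : (polarBilin Q).Nondegenerate) (hA : Skew Q A) (m : ℕ) (hm : finrank F V = 2 * m) :
    ∃ e : (Fin m × Fin 2 → F) ≃ₗ[F] V, (∀ x, Q (e x) = ∑ p, x p * x p) ∧
      ∀ x, A (e x) = e (fun p => if p.2 = 0 then - x (p.1, 1) else x (p.1, 0)) := by
  obtain ⟨v, hv⟩ := hA.exists_family h2 hQ m (by omega)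
  have hli : LinearIndependent F (bb A v) := by
    rw [Fintype.linearIndependent_iff]
    intro g hg p
    have h1 := congrArg (fun z => polarBilin Q z (bb A v p)) hg
    simp only [map_sum, map_smul, LinearMap.sum_apply, LinearMap.smul_apply, hv.polar_bb h2 hA, smul_eq_mul,
      mul_ite, mul_zero, map_zero, LinearMap.zero_apply] at h1
    rw [Finset.sum_ite_eq' Finset.univ p, if_pos (Finset.mem_univ p)] at h1
    exact (mul_eq_zero.1 h1).resolve_right h2
  have hcard : Fintype.card (Fin m × Fin 2) = finrank F V := by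
    rw [Fintype.card_prod, Fintype.card_fin, Fintype.card_fin, hm, mul_comm]
  rcases Nat.eq_zero_or_pos m with h0 | h0
  · subst h0
    have hfr : finrank F V = 0 := by rw [hm]
    have hsub : Subsingleton V := finrank_zero_iff.1 hfr
    refine ⟨LinearEquiv.ofBijective (0 : (Fin 0 × Fin 2 → F) →ₗ[F] V) ⟨fun a b _ => Subsingleton.elim _ _,
      fun y => ⟨0, Subsingleton.elim _ _⟩⟩, fun x => ?_, fun x => Subsingleton.elim _ _⟩
    refine (congrArg Q (Subsingleton.elim _ 0)).trans ?_
    rw [QuadraticMap.map_zero]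
    simp
  · have hne : Nonempty (Fin m × Fin 2) := ⟨(⟨0, h0⟩, 0)⟩
    let b := basisOfLinearIndependentOfCardEqFinrank hli hcard
    have hb : ∀ x, b.equivFun.symm x = ∑ p, x p • bb A v p := by
      intro x
      rw [Basis.equivFun_symm_apply]
      simp [b, coe_basisOfLinearIndependentOfCardEqFinrank]
    refine ⟨b.equivFun.symm, fun x => ?_, fun x => ?_⟩
    · rw [hb]
      have h1 : 2 * Q (∑ p, x p • bb A v p) = 2 * ∑ p, x p * x p := by
        have h3 : QuadraticMap.polar Q (∑ p, x p • bb A v p) (∑ p, x p • bb A v p) =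
            2 * Q (∑ p, x p • bb A v p) := by
          rw [QuadraticMap.polar_self]; simp
        rw [← h3, ← polarBilin_apply_apply, map_sum, Finset.mul_sum]
        refine Finset.sum_congr rfl fun p _ => ?_
        rw [map_smul, map_sum, LinearMap.sum_apply]
        simp only [map_smul, LinearMap.smul_apply, hv.polar_bb h2 hA, smul_eq_mul, mul_ite, mul_zero]
        rw [Finset.sum_ite_eq' Finset.univ p, if_pos (Finset.mem_univ p)]
        ring
      exact mul_left_cancel₀ h2 h1
    · rw [hb, hb, map_sum]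
      simp only [map_smul]
      rw [Fintype.sum_prod_type, Fintype.sum_prod_type]
      refine Finset.sum_congr rfl fun i _ => ?_
      rw [Fin.sum_univ_two, Fin.sum_univ_two]
      rw [bb_zero, bb_one, hA.sq]
      simp only [if_true, one_ne_zero, if_false]
      rw [smul_neg, neg_smul, add_comm]

end Cfsg.Agent.H803.UnfO
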